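import Groth.Agent.CurveEmbed.DegOne
import Groth.Agent.CurveEmbed.Points
import Groth.Agent.CurveCohLib.GlobGen
import Groth.Agent.ArSurfX.IdealFrame
import Groth.Agent.CurvePt15.Drop
import Groth.Agent.DimFormula.DedekindFlat
import Groth.Agent.CurveCohLib.SubBundle
import Groth.Agent.CurveEmbed.Equiv
import Groth.Agent.CurveEmbed.P1
import Groth.Agent.FFun.Basic
import Groth.Agent.KFlatLib.Scheme.RGammaPush
import Groth.Agent.Lib.CurveStable
import Groth.Agent.CurveBC.Coh

/-! Twists by a rational point on a curve of arithmetic genus one. -/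

noncomputable section

set_option linter.style.haveILetI false
set_option linter.unusedSectionVars false
set_option backward.isDefEq.respectTransparency false
set_option backward.isDefEq.respectTransparency.types false

universe u

open CategoryTheory CategoryTheory.Limits AlgebraicGeometry TopologicalSpace Opposite
open Groth.Agent.PnCoh.Finite (mapLin)

attribute [local instance] Curv2.resAlgebra

namespace Groth.Agent.GenusOne15

open Groth.Agent Groth.Agent.CurvePoint Groth.Agent.CurveBundle Groth.Agent.CurveSlope Groth.Agent.CurveStable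

variable {X : Scheme.{u}} (k : Type u) [Field k] [X.Over (Spec (CommRingCat.of k))] [IsIntegral X]
  [IsProper (X ↘ Spec (CommRingCat.of k))] (hdim : topologicalKrullDim X = 1)
  (hpa : Curv2.euler k X (Coh.structureModule X) = 0)
  {p : X} (hp : IsClosed ({p} : Set X)) (hrat : Function.Surjective (Curv2.resMap k X p))
  (hreg : IsRegularLocalRing (X.presheaf.stalk p))

include k in
theorem h1_eq_zero_of_iso (e : X ≅ CohB1.ProjSpace 1 k)
    (he : e.hom ≫ CohB1.ProjSpace.toSpec 1 k = X ↘ Spec (CommRingCat.of k)) :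
    Module.finrank k (Coh.HH X (Coh.structureModule X) 1) = 0 := by
  haveI : IsProper (CohB1.ProjSpace.toSpec 1 k) := PnCoh.Chow.isProper_toSpec 1 k
  haveI : CompactSpace ↥(CohB1.ProjSpace 1 k) :=
    QuasiCompact.compactSpace_of_compactSpace (CohB1.ProjSpace.toSpec 1 k)
  haveI : (CohB1.ProjSpace 1 k).IsSeparated := ⟨by
    rw [← Limits.terminal.comp_from (CohB1.ProjSpace.toSpec 1 k)]; infer_instance⟩
  have hpb : IsPullback e.hom (X ↘ Spec (CommRingCat.of k))
      ((CohB1.ProjSpace 1 k) ↘ Spec (CommRingCat.of k))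
      (Spec.map (CommRingCat.ofHom (algebraMap k k))) := by
    haveI : IsIso (Spec.map (CommRingCat.ofHom (algebraMap k k))) := by
      rw [show CommRingCat.ofHom (algebraMap k k) = 𝟙 (CommRingCat.of k) from rfl]
      infer_instance
    refine IsPullback.of_horiz_isIso ⟨?_⟩
    rw [show CommRingCat.ofHom (algebraMap k k) = 𝟙 (CommRingCat.of k) from rfl, Spec.map_id, Category.comp_id]
    exact he
  rw [CurveBC.finrank_hh_unit k k e.hom hpb 1]
  haveI h : Subsingleton (Coh.HH (CohB1.ProjSpace 1 k) (Coh.structureModule (CohB1.ProjSpace 1 k)) (0 + 1)) :=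
    PnCoh.subsingleton_HH_structureModule (ι := Fin (1 + 1)) (R := k) (PnCoh.isQCoh_structureModule _) 0
  exact Module.finrank_zero_of_subsingleton (R := k)
    (M := Coh.HH (CohB1.ProjSpace 1 k) (Coh.structureModule _) (0 + 1))

/-- A morphism from the structure sheaf killing all sections is zero. -/
theorem eq_zero_of_h0 {T : X.Modules} (ψ : Coh.structureModule X ⟶ T)
    (h : ∀ t : Coh.HH X (Coh.structureModule X) 0, mapLin k ψ 0 t = 0) : ψ = 0 := by
  refine (KFlatLib.topEquiv T).injective ?_
  let e := Sheaf.H.equiv₀ (Coh.toAb (Coh.structureModule X)) isTerminalTop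
  have h1 := (Sheaf.H.equiv₀_naturality isTerminalTop ((QCoh.toAbFunctor X).map ψ) (e.symm (1 : Γ(X, ⊤))))
  show ψ.app ⊤ (1 : Γ(X, ⊤)) = (0 : Coh.structureModule X ⟶ T).app ⊤ (1 : Γ(X, ⊤))
  refine (congrArg (ψ.app ⊤) (e.apply_symm_apply (1 : Γ(X, ⊤)))).symm.trans (Eq.trans h1 ?_)
  rw [show Sheaf.H.map ((QCoh.toAbFunctor X).map ψ) 0 (e.symm (1 : Γ(X, ⊤))) = 0 from h _, map_zero]
  rfl

include k in
theorem nontrivial_tensor_quot {L : X.Modules} (hL : PicF.IsInvertible L) {q : X} (hq : IsClosed ({q} : Set X)) :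
    ¬ Subsingleton (((DCoh.tensorBi.obj L).obj (ClSub.quotMod (ptIdeal q hq))).presheaf.stalk q) := by
  intro hs
  haveI := CurveCohLib.isNoetherian_of_proper (k := k) (X := X)
  have hQ := ParShLib.isCoh_quotMod (ptIdeal q hq)
  have hL1 := InvEnd.isFinLocFreeOfRank_one hL
  have hcl : ∀ y ∈ CohB1.support (ClSub.quotMod (ptIdeal q hq)), IsClosed ({y} : Set X) :=
    fun y hy => Set.mem_singleton_iff.1 (support_quot_subset q hq hy) ▸ hq
  have hz : IsZero ((DCoh.tensorBi.obj L).obj (ClSub.quotMod (ptIdeal q hq))) :=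
    CurveCohLib.isZero_of_subsingleton_stalks fun y => by
      by_cases hy : y = q
      · exact hy ▸ hs
      · exact not_not.1 fun h => hy (Set.mem_singleton_iff.1 (support_quot_subset q hq (CurveTensor.support_tensor_subset h)))
  have h1 := CurveTensor.euler_tensor_torsion k hL1 hQ hcl
  rw [CurveCohLib.euler_eq_finrank_zero (k := k)
    (CurveTensor.isCoh_tensor (isFinLocFree_of_rank hL1) hQ)
    (fun y hy => hcl y (CurveTensor.support_tensor_subset hy))] at h1
  obtain ⟨hh, hfin⟩ := CurveCohLib.euler_eq_sum_stalks (k := k) hQ hcl {q} (by simpa using support_quot_subset q hq)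
  rw [hh, Finset.sum_singleton] at h1
  letI := CurveCohLib.stalkModuleK k (ClSub.quotMod (ptIdeal q hq)) q
  haveI := hfin q (Finset.mem_singleton_self q)
  haveI : Nontrivial ((ClSub.quotMod (ptIdeal q hq)).presheaf.stalk q) :=
    not_subsingleton_iff_nontrivial.1 (not_subsingleton_stalk q hq)
  have h2 : 0 < Module.finrank k ((ClSub.quotMod (ptIdeal q hq)).presheaf.stalk q) := Module.finrank_pos
  haveI := Euler.subsingleton_HH_of_isZero hz 0
  rw [Module.finrank_zero_of_subsingleton] at h1
  push_cast at h1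
  omega

include hdim hreg in
theorem isNormal_point : IsIntegrallyClosed (X.presheaf.stalk p) := by
  haveI := hreg
  haveI : IsPrincipalIdealRing (X.presheaf.stalk p) :=
    DimFormula.isPrincipalIdealRing_of_regular_dim_le_one
      ((CurveCohLib.ringKrullDim_stalk_le_topologicalKrullDim p).trans hdim.le)
  infer_instance

include hrat in
theorem finrank_residue : Module.finrank k (X.residueField p) = 1 :=
  ((LinearEquiv.ofBijective (Algebra.linearMap k (X.residueField p))
    ⟨(Curv2.resMap k X p).injective, hrat⟩).symm.finrank_eq).trans (Module.finrank_self k)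

include hp hrat in
theorem h0_unit : Module.finrank k (Coh.HH X (Coh.structureModule X) 0) = 1 := by
  haveI := CurveCohLib.isNoetherian_of_proper (k := k) (X := X)
  have h1 : Module.finrank k (Coh.HH X (ClSub.quotMod (ptIdeal p hp)) 0) = 1 := by
    have h := CurvePt15.euler_quot_eq p hp k
    rw [CurveCohLib.euler_eq_finrank_zero (k := k) (ParShLib.isCoh_quotMod _)
      (fun y hy => Set.mem_singleton_iff.1 (support_quot_subset p hp hy) ▸ hp), finrank_residue k hrat] at h
    exact_mod_cast h
  exact Nat.dvd_one.1 (h1 ▸ CurveEmbed.h0_structure_dvd k (ClSub.quotMod (ptIdeal p hp)))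

include hdim hpa hp hrat in
theorem h1_unit : Module.finrank k (Coh.HH X (Coh.structureModule X) 1) = 1 := by
  haveI := CurveCohLib.isNoetherian_of_proper (k := k) (X := X)
  have h := CurveRR.euler_eq_h0_sub_h1 k hdim.le (QCoh.isQCoh_structureModule (X := X))
  rw [hpa, h0_unit k hp hrat] at h
  omega

include hdim hpa hp hrat hreg in
/-- Invertible modules of positive degree have no first cohomology. -/
theorem subsingleton_h1 : ∀ (n : ℕ) {M : X.Modules}, PicF.IsInvertible M → Curv2.deg k X M 1 = n + 1 →
    Subsingleton (Coh.HH X M 1) := by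
  haveI := CurveCohLib.isNoetherian_of_proper (k := k) (X := X)
  intro n
  induction n with
  | zero =>
    intro M hM hd
    haveI := CurveCohLib.finite_HH (k := k) (CurveDeg.isCoh_of_isInvertible hM) 1
    refine (Module.finrank_zero_iff (R := k)).1 (Nat.eq_zero_of_not_pos fun hpos => ?_)
    have h := CurveRR.euler_eq_h0_sub_h1 k hdim.le (CurveDeg.isCoh_of_isInvertible hM).1
    have hd' := hd
    unfold Curv2.deg at hd'
    rw [h, hpa] at hd'
    obtain ⟨e, he⟩ := CurveEmbed.exists_iso_line_of_deg_one k hdim hM (by rw [hd]; norm_num) (by omega)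
    have h1 := h1_unit k hdim hpa hp hrat
    rw [h1_eq_zero_of_iso k e he] at h1
    exact zero_ne_one h1
  | succ n ih =>
    intro M hM hd
    have hP := CurveEmbed.isInvertible_point k hdim hp (isNormal_point hdim hreg)
    have hd' : Curv2.deg k X ((DCoh.tensorBi.obj M).obj (ptMod p hp)) 1 = n + 1 := by
      rw [CurveRR.deg_tensor k hdim hM hP, hd, CurveEmbed.deg_point k hp, finrank_residue k hrat]
      omega
    haveI := ih (InvX.isInvertible_tensorMod hM hP) hd'
    have hMf := isFinLocFree_of_rank (InvEnd.isFinLocFreeOfRank_one hM)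
    have hS := CurveTensor.shortExact_tensor hMf _ _ _
      (show (ShortComplex.mk (ClSub.idealModι (ptIdeal p hp)) (ClSub.toSubscheme (ptIdeal p hp))
        (kernel.condition _)).ShortExact by
          haveI := epi_toSubscheme (ptIdeal p hp)
          exact CurveSlope.shortExact_kernel_of_epi _)
    haveI : Subsingleton (Coh.HH X ((DCoh.tensorBi.obj M).obj (ClSub.quotMod (ptIdeal p hp))) 1) := by
      refine CurveVanish.subsingleton_HH_of_finite (Set.finite_singleton p)
        (fun x hx => (Set.mem_singleton_iff.1 hx) ▸ hp) (fun x hx => not_not.1 fun h => hx ?_) 0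
      exact support_quot_subset p hp (CurveTensor.support_tensor_subset h)
    exact QCoh.subsingleton_HH_of_iso (KFlatLib.tensorUnitIso M) 1
      (QCoh.subsingleton_HH_X₂ hS 1 ‹_› ‹_›)

include hdim hpa hp hrat hreg in
theorem h0_eq {M : X.Modules} (hM : PicF.IsInvertible M) (n : ℕ) (hd : Curv2.deg k X M 1 = n + 1) :
    Module.finrank k (Coh.HH X M 0) = n + 1 := by
  haveI := CurveCohLib.isNoetherian_of_proper (k := k) (X := X)
  haveI := subsingleton_h1 k hdim hpa hp hrat hreg n hM hd
  have h := CurveRR.euler_eq_h0_sub_h1 k hdim.le (CurveDeg.isCoh_of_isInvertible hM).1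
  unfold Curv2.deg at hd
  rw [h, hpa, Module.finrank_zero_of_subsingleton (M := Coh.HH X M 1)] at hd
  omega

include hdim hrat hreg in
theorem deg_pow (n : ℕ) : PicF.IsInvertible (ClSub.idealMod ((ptIdeal p hp) ^ n)) ∧
    Curv2.deg k X (ClSub.idealMod ((ptIdeal p hp) ^ n)) 1 = -(n : ℤ) := by
  haveI := CurveCohLib.isNoetherian_of_proper (k := k) (X := X)
  have hE := CurveEmbed.isEffCartier_point k hdim hp (isNormal_point hdim hreg)
  have hP := CurveEmbed.isInvertible_point k hdim hp (isNormal_point hdim hreg)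
  induction n with
  | zero =>
    rw [pow_zero]
    have h1 : PicF.IsInvertible (ClSub.idealMod (1 : X.IdealSheafData)) :=
      ArSurfX.isInvertible_idealMod ArSurfX.isEffCartier_one
    refine ⟨h1, ?_⟩
    obtain ⟨e⟩ := ArSurfX.nonempty_idealMod_mul (D := (1 : X.IdealSheafData)) (E := 1)
      ArSurfX.isEffCartier_one ArSurfX.isEffCartier_one
    have h := CurveRR.deg_congr k e 1
    have h' := CurveRR.deg_tensor k hdim h1 h1
    rw [mul_one] at h
    change Curv2.deg k X ((DCoh.tensorBi.obj _).obj _) 1 = _ at h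
    omega
  | succ n ih =>
    rw [pow_succ]
    obtain ⟨e⟩ := ArSurfX.nonempty_idealMod_mul (ArSurfX.isEffCartier_pow hE n) hE
    refine ⟨H23.PicMul.isInvertible_of_iso e (InvX.isInvertible_tensorMod ih.1 hP), ?_⟩
    rw [← CurveRR.deg_congr k e 1]
    show Curv2.deg k X ((DCoh.tensorBi.obj (ClSub.idealMod (ptIdeal p hp ^ n))).obj (ptMod p hp)) 1 = _
    rw [CurveRR.deg_tensor k hdim ih.1 hP, ih.2, CurveEmbed.deg_point k hp, finrank_residue k hrat]
    omega

include hdim hpa hp hrat hreg in
/-- Twists `O(np)`, `n ≥ 2`, are globally generated. -/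
theorem gg_twist {L : X.Modules} (hL : PicF.IsInvertible L) (m : ℕ) (hd : Curv2.deg k X L 1 = m + 2)
    (e : CohB1.tensorMod L (ClSub.idealMod ((ptIdeal p hp) ^ (m + 2))) ≅ Coh.structureModule X) :
    Curv2.IsGloballyGenerated L := by
  haveI := CurveCohLib.isNoetherian_of_proper (k := k) (X := X)
  haveI := CurveCohLib.finite_HH (k := k) (CurveDeg.isCoh_of_isInvertible hL) 0
  have hP := CurveEmbed.isInvertible_point k hdim hp (isNormal_point hdim hreg)
  have hLf := isFinLocFree_of_rank (InvEnd.isFinLocFreeOfRank_one hL)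
  have h0 := h0_eq k hdim hpa hp hrat hreg hL (m + 1) (by rw [hd]; push_cast; ring)
  refine CurveCohLib.GlobGen.isGloballyGenerated k hdim hL
    (CurveRR.exists_hom_ne_zero k (P := L) (by omega)) fun q hq => ?_
  have hS := CurveTensor.shortExact_tensor hLf _ _ _
    (show (ShortComplex.mk (ClSub.idealModι (ptIdeal q hq)) (ClSub.toSubscheme (ptIdeal q hq))
      (kernel.condition _)).ShortExact by
        haveI := epi_toSubscheme (ptIdeal q hq)
        exact CurveSlope.shortExact_kernel_of_epi _)
  by_cases hqp : q = p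
  · subst hqp
    by_contra! hall
    have hsurj : Function.Surjective
        (mapLin k ((DCoh.tensorBi.obj L).map (ClSub.idealModι (ptIdeal q hq))) 0) := fun t =>
      (CurveCohLib.ker_mapLin_g k hS 0).le (LinearMap.mem_ker.2 (hall t))
    haveI : Module.Finite k (Coh.HH X ((DCoh.tensorBi.obj L).obj (ClSub.idealMod (ptIdeal q hq))) 0) :=
      CurveCohLib.finite_HH (k := k) (CurveDeg.isCoh_of_isInvertible (InvX.isInvertible_tensorMod hL hP)) 0
    have h1 := LinearMap.finrank_le_finrank_of_surjective hsurj
    rw [(CurveCohLib.hhEquiv (k := k) (KFlatLib.tensorUnitIso L) 0).finrank_eq, h0] at h1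
    have h2 := h0_eq k hdim hpa hp hrat hreg (InvX.isInvertible_tensorMod hL hP) m (by
      show Curv2.deg k X ((DCoh.tensorBi.obj L).obj (ptMod q hp)) 1 = _
      rw [CurveRR.deg_tensor k hdim hL hP, hd, CurveEmbed.deg_point k hp, finrank_residue k hrat]
      ring)
    have h3 : Module.finrank k (Coh.HH X ((DCoh.tensorBi.obj L).obj (ClSub.idealMod (ptIdeal q hq))) 0) = m + 1 := h2
    omega
  · let π := (DCoh.tensorBi.obj L).map (ClSub.toSubscheme (ptIdeal q hq))
    let J := (ptIdeal p hp) ^ (m + 2)
    let j := (DCoh.tensorBi.obj L).map (ClSub.idealModι J)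
    let e0 : (DCoh.tensorBi.obj L).obj (ClSub.idealMod J) ≅ Coh.structureModule X := e
    have hψ : e0.inv ≫ j ≫ π ≠ 0 := fun h => by
      have h' : j ≫ π = 0 := by rw [← cancel_epi e0.inv, h, comp_zero]
      let F := DerSch.stalkFunctor X q
      haveI : Epi (F.map π) := by
        haveI : Epi π := hS.epi_g
        infer_instance
      have hqJ : q ∉ J.support := fun hmem => hqp (Set.mem_singleton_iff.1
        (show q ∈ ((ptIdeal p hp).support : Set X) from ((ptIdeal p hp).support_pow (m + 2) (by omega)) ▸ hmem))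
      haveI : Epi (F.map j) := by
        have hTJ : IsZero (F.obj ((DCoh.tensorBi.obj L).obj (ClSub.quotMod J))) :=
          ModuleCat.isZero_of_iff_subsingleton.2 (not_not.1 fun hns => CurveTensor.support_tensor_subset
            (E := L) (F := ClSub.quotMod J) (a := q) hns (ParShLib.subsingleton_stalk_quotMod J hqJ))
        haveI := epi_toSubscheme J
        have hSJ := CurveTensor.shortExact_tensor hLf _ _ _ (CurveSlope.shortExact_kernel_of_epi (ClSub.toSubscheme J))
        exact (hSJ.exact.map F).epi_f (hTJ.eq_of_tgt _ _)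
      have hz : F.map j ≫ F.map π = 0 := by rw [← F.map_comp, h', F.map_zero]
      haveI : Epi (F.map j ≫ F.map π) := epi_comp _ _
      have hid : IsZero (F.obj ((DCoh.tensorBi.obj L).obj (ClSub.quotMod (ptIdeal q hq)))) := by
        rw [IsZero.iff_id_eq_zero, ← cancel_epi (F.map j ≫ F.map π), hz]
        simp
      exact nontrivial_tensor_quot k hL hq (ModuleCat.subsingleton_of_isZero hid)
    by_contra! hall
    refine hψ (eq_zero_of_h0 k _ fun t => ?_)
    rw [← FFun.mapLin_comp, ← FFun.mapLin_comp]
    exact hall _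

end Groth.Agent.GenusOne15
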